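import Groth.Agent.Lib.FlatValCrit1.Coker
import Groth.Agent.Lib.FlatOff.InfinitesimalMain

/-!
# Fibre depth along `J` after a local base change
-/

set_option autoImplicit false
set_option linter.style.haveILetI false
universe u

open IsLocalRing TensorProduct GrothLib.FlatOff

namespace GrothLib.FlatValCrit1

/-- Depth is invariant under ring isomorphisms. -/
theorem le_depth_of_ringEquiv {A B : Type u} [CommRing A] [CommRing B] [IsLocalRing A] [IsLocalRing B]
    [IsNoetherianRing A] (e : A ≃+* B) {n : ℕ∞} (h : n ≤ LocCoh.depth A A) : n ≤ LocCoh.depth B B := by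
  haveI := isNoetherianRing_of_ringEquiv A e
  letI : Algebra A B := e.toRingHom.toAlgebra
  haveI : Module.Finite A B := Module.Finite.of_surjective (Algebra.linearMap _ _) e.surjective
  rw [← GrothLib.Faltings.depth_eq_of_surjective (A := A) e.surjective B]
  exact h.trans (GrothLib.Depth.idealDepth_eq_of_equiv _ (LinearEquiv.ofBijective (Algebra.linearMap _ _) e.bijective)).le

/-- A fibre point of depth two keeps depth two after a local base change. -/
theorem two_le_depth_fib_point {R C V C' : Type u} [CommRing R] [CommRing C] [CommRing V] [IsLocalRing V]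
    [CommRing C'] [IsNoetherianRing C] [IsNoetherianRing C'] [Algebra R C] [Module.Flat R C]
    [Algebra R V] [Algebra V C'] [Algebra C C'] [Algebra R C'] [IsScalarTower R C C'] [IsScalarTower R V C']
    [Algebra.IsPushout R C V C'] (q : Ideal C') [q.IsPrime]
    (hq : q.comap (algebraMap V C') = maximalIdeal V)
    (h : (2 : ℕ∞) ≤ LocCoh.idealDepth
      ((q.comap (algebraMap C C')).map (algebraMap C (EGA4.FibLocRing R C (q.comap (algebraMap C C')))))
      (EGA4.FibLocRing R C (q.comap (algebraMap C C')))) :
    (2 : ℕ∞) ≤ LocCoh.idealDepth (q.map (algebraMap C' (EGA4.FibLocRing V C' q))) (EGA4.FibLocRing V C' q) := by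
  let I := maximalIdeal V
  let L := V ⧸ I
  let B'' := C' ⧸ I.map (algebraMap V C')
  haveI : Algebra.IsPushout V C' L B'' := isPushout_quot_map V C' I
  haveI : IsScalarTower R L B'' := IsScalarTower.of_algebraMap_eq fun r => by
    show Ideal.Quotient.mk _ (algebraMap R C' r) = Ideal.Quotient.mk _ (algebraMap V C' (algebraMap R V r))
    rw [← IsScalarTower.algebraMap_apply R V C']
  haveI : IsScalarTower R C B'' := IsScalarTower.of_algebraMap_eq fun r => by
    show Ideal.Quotient.mk _ (algebraMap R C' r) = Ideal.Quotient.mk _ (algebraMap C C' (algebraMap R C r))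
    rw [← IsScalarTower.algebraMap_apply R C C']
  haveI : Algebra.IsPushout R V C C' := Algebra.IsPushout.symm inferInstance
  haveI : Algebra.IsPushout V L C' B'' := Algebra.IsPushout.symm inferInstance
  haveI : Algebra.IsPushout R L C B'' := Algebra.IsPushout.comp_iff (R := R) (S := V) (R' := C) (S' := C')
    (T := L) (T' := B'') |>.2 inferInstance
  haveI : Algebra.IsPushout R C L B'' := Algebra.IsPushout.symm inferInstance
  have hle : I.map (algebraMap V C') ≤ q := Ideal.map_le_iff_le_comap.2 hq.ge
  have hsC : Function.Surjective (algebraMap C' B'') := Ideal.Quotient.mk_surjective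
  let q'' : Ideal B'' := q.map (algebraMap C' B'')
  haveI : q''.IsPrime := Ideal.map_isPrime_of_surjective hsC
    (by rw [Ideal.Quotient.algebraMap_eq, Ideal.mk_ker]; exact hle)
  have hq'' : q''.comap (algebraMap C' B'') = q := by
    rw [Ideal.comap_map_of_surjective _ hsC, ← RingHom.ker_eq_comap_bot, Ideal.Quotient.algebraMap_eq,
      Ideal.mk_ker, sup_eq_left]
    exact hle
  have hqc : q.comap (algebraMap C C') = q''.comap (algebraMap C B'') := by
    rw [IsScalarTower.algebraMap_eq C C' B'', ← Ideal.comap_comap, hq'']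
  have h1 := le_depth_baseChange (A := R) (A' := L) C q'' (q.comap (algebraMap C C')) hqc 2
    (fibLocMod_ring_depth _ _ h)
  let Y := Localization.AtPrime q''
  haveI : IsNoetherianRing Y := IsLocalization.isNoetherianRing q''.primeCompl _ inferInstance
  have h2 : (2 : ℕ∞) ≤ LocCoh.depth Y Y := by
    refine h1.trans (le_of_eq ?_)
    haveI : Module.Finite Y (LocalizedModule q''.primeCompl (B'' ⊗[C] C)) :=
      Module.Finite.of_isLocalizedModule q''.primeCompl (LocalizedModule.mkLinearMap q''.primeCompl _)
    exact GrothLib.Depth.idealDepth_eq_of_equiv _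
      (((LocalizedModule.equivTensorProduct q''.primeCompl (B'' ⊗[C] C))).trans
        ((LinearEquiv.baseChange B'' Y _ _ (AlgebraTensorModule.rid C B'' B'')).trans
          (AlgebraTensorModule.rid B'' Y Y)))
  letI : Field L := Ideal.Quotient.field I
  have hbot : (q''.comap (algebraMap L B'')).map (algebraMap L Y) = ⊥ := by
    rcases Ideal.eq_bot_or_top (q''.comap (algebraMap L B'')) with h0 | h0
    · rw [h0, Ideal.map_bot]
    · exact absurd h0 (Ideal.IsPrime.ne_top inferInstance)
  let e₁ : Y ≃+* EGA4.FibLocRing L B'' q'' := (RingEquiv.quotientBot Y).symm.trans (Ideal.quotEquivOfEq hbot.symm)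
  obtain ⟨e, -⟩ := exists_fibLocRing_equiv (R := V) (A' := L) (C := C') (C' := B'') Ideal.Quotient.mk_surjective
    hsC q q'' hq'' (by rw [Ideal.Quotient.algebraMap_eq, Ideal.mk_ker, hq])
  haveI := isLocalRing_fibLocRing (A := V) q
  haveI := isLocalRing_fibLocRing (A := L) q''
  have h3 := le_depth_of_ringEquiv (e₁.trans e.symm) h2
  refine h3.trans (le_of_eq ?_)
  rw [LocCoh.depth, IsScalarTower.algebraMap_eq C' (Localization.AtPrime q) (EGA4.FibLocRing V C' q),
    ← Ideal.map_map, Localization.AtPrime.map_eq_maximalIdeal]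
  congr 1
  exact (IsLocalRing.map_maximalIdeal_of_surjective _ Ideal.Quotient.mk_surjective).symm

/-- Depth along `J` at least two of the fibre after a local base change. -/
theorem two_le_depth_fib_baseChange {R C V C' : Type u} [CommRing R] [IsLocalRing R] [CommRing C] [CommRing V]
    [IsLocalRing V] [CommRing C'] [IsNoetherianRing C] [IsNoetherianRing C'] [Algebra R C] [Module.Flat R C]
    [Algebra R V] [IsLocalHom (algebraMap R V)]
    [Algebra V C'] [Algebra C C'] [Algebra R C'] [IsScalarTower R C C'] [IsScalarTower R V C']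
    [Algebra.IsPushout R C V C'] (J : Ideal C) (n : Ideal C) [n.IsPrime]
    (hn : n.comap (algebraMap R C) = maximalIdeal R)
    (hS2 : LocCoh.HasSk 2 (EGA4.FibLocRing R C n) (EGA4.FibLocRing R C n))
    (hcodim : ∀ r : PrimeSpectrum C, J ≤ r.asIdeal → (2 : WithBot ℕ∞) ≤ ringKrullDim (EGA4.FibLocRing R C r.asIdeal))
    (q : Ideal C') [q.IsPrime] (hq : q.comap (algebraMap V C') = maximalIdeal V)
    (hqn : q.comap (algebraMap C C') = n) :
    2 ≤ LocCoh.idealDepth ((J.map (algebraMap C C')).map (algebraMap C' (EGA4.FibLocRing V C' q)))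
      (EGA4.FibLocRing V C' q) := by
  let X := Localization.AtPrime q
  haveI : IsNoetherianRing X := IsLocalization.isNoetherianRing q.primeCompl _ inferInstance
  have h := le_idealDepth_fibLocMod' (A := V) C' (J.map (algebraMap C C')) q 2 fun r hrq hJr hp => by
    refine fibLocMod_ring_depth r.asIdeal 2 (two_le_depth_fib_point (R := R) (C := C) r.asIdeal (hp.trans hq) ?_)
    let s := r.asIdeal.comap (algebraMap C C')
    have hsn : s ≤ n := (Ideal.comap_mono hrq).trans hqn.le
    have hsm : s.comap (algebraMap R C) = n.comap (algebraMap R C) := by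
      rw [hn, Ideal.comap_comap, ← IsScalarTower.algebraMap_eq R C C', IsScalarTower.algebraMap_eq R V C',
        ← Ideal.comap_comap, hp, hq]
      exact Ideal.ext fun x => by simp
    haveI : IsNoetherianRing (Localization.AtPrime s) := IsLocalization.isNoetherianRing s.primeCompl _ inferInstance
    haveI := isLocalRing_fibLocRing (A := R) s
    have hb : GrothLib.SyntLoc.SkBound 2 (EGA4.FibLocRing R C s) := skBound_fibLocRing_of_le n s hsn hsm hS2
    unfold GrothLib.SyntLoc.SkBound at hb
    rw [Nat.cast_ofNat, min_eq_left (hcodim ⟨s, inferInstance⟩ (Ideal.map_le_iff_le_comap.1 hJr))] at hb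
    refine (WithBot.coe_le_coe.1 hb).trans (le_of_eq ?_)
    rw [LocCoh.depth, IsScalarTower.algebraMap_eq C (Localization.AtPrime s) (EGA4.FibLocRing R C s),
      ← Ideal.map_map, Localization.AtPrime.map_eq_maximalIdeal]
    congr 1
    exact (IsLocalRing.map_maximalIdeal_of_surjective _ Ideal.Quotient.mk_surjective).symm
  let D := EGA4.FibLocRing V C' q
  obtain ⟨e⟩ := nonempty_fibLocMod_equiv (A := V) C' q
  let e₀ : LocalizedModule q.primeCompl C' ≃ₗ[X] X :=
    (LocalizedModule.equivTensorProduct q.primeCompl C').trans (AlgebraTensorModule.rid C' X X)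
  let e₁ : EGA4.FibLocMod V C' q C' ≃ₗ[X] D := Submodule.Quotient.equiv _ _ e₀ (by
    rw [Submodule.map_smul'', Submodule.map_top, LinearEquiv.range, smul_eq_mul, Ideal.mul_top])
  haveI : Module.Finite X (EGA4.FibLocMod V C' q C') := Module.Finite.equiv e
  rw [GrothLib.Depth.idealDepth_eq_of_equiv _ e₁, ← GrothLib.Depth.idealDepth_map_eq (B := D)] at h
  rw [IsScalarTower.algebraMap_eq C' X D, ← Ideal.map_map]
  exact_mod_cast h

end GrothLib.FlatValCrit1
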