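import Groth.Agent.Lib.FlatValCrit1.FibSk

/-!
# Flatness of the cokernel over a discrete valuation ring from `(S₂)` of the double dual
-/

set_option autoImplicit false
set_option linter.style.haveILetI false
universe u

open Function IsLocalRing TensorProduct GrothLib.FlatOff

namespace GrothLib.FlatValCrit1

/-- Depth along `J` from depth along `J` of the quotient by a regular element of the maximal ideal. -/
theorem depth_sup_span_of_quotient {X : Type u} [CommRing X] [IsNoetherianRing X] [IsLocalRing X] (J : Ideal X) (t : X)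
    (htm : t ∈ maximalIdeal X) (hreg : IsSMulRegular X t)
    (h : (2 : ℕ∞) ≤ LocCoh.idealDepth J (X ⧸ (Ideal.span {t} • (⊤ : Submodule X X)))) :
    2 ≤ LocCoh.idealDepth (J ⊔ Ideal.span {t}) X ∧ 2 ≤ LocCoh.idealDepth J X := by
  have h1 := GrothLib.Depth.idealDepth_quotSMulTop_add_one (I := J ⊔ Ideal.span {t}) (M := X)
    (Ideal.mem_sup_right (Ideal.mem_span_singleton_self t)) hreg
  have e : (X ⧸ (Ideal.span {t} • (⊤ : Submodule X X))) ≃ₗ[X] QuotSMulTop t X :=
    Submodule.quotEquivOfEq _ _ (Submodule.ideal_span_singleton_smul t ⊤)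
  rw [GrothLib.Depth.idealDepth_eq_of_equiv J e] at h
  have h3 : (3 : ℕ∞) ≤ LocCoh.idealDepth (J ⊔ Ideal.span {t}) X := by
    rw [← h1, show (3 : ℕ∞) = 2 + 1 from rfl]
    exact add_le_add_left (h.trans (GrothLib.Depth.idealDepth_mono le_sup_left)) 1
  refine ⟨le_trans (by norm_num) h3, ?_⟩
  by_cases hJ : J ≤ maximalIdeal X
  · exact GrothLib.Depth.le_idealDepth_of_sup_span (sup_le hJ ((Ideal.span_singleton_le_iff_mem _).2 htm)) 2 h3
  · have : J = ⊤ := by
      by_contra hne
      exact hJ (le_maximalIdeal hne)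
    rw [this, LocCoh.idealDepth, if_pos (Submodule.top_smul _)]
    exact le_top

section Step

variable {A B : Type u} [CommRing A] [CommRing B] [IsNoetherianRing A] [IsNoetherianRing B] [Algebra A B]
  [IsDomain A] [IsDiscreteValuationRing A] [Module.Flat A B] (J : Ideal B) (q : Ideal B) [q.IsPrime]
  {N M : ℕ} {F : Type u} [AddCommGroup F] [Module B F] [Module.Finite B F]
  (g : F →ₗ[B] (Fin N → B)) (h : (Fin N → B) →ₗ[B] (Fin M → B))

theorem flatAt_coker_of_hasSk_dvr (hqm : q.comap (algebraMap A B) = maximalIdeal A)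
    (hD' : 2 ≤ LocCoh.idealDepth (J.map (algebraMap B (EGA4.FibLocRing A B q))) (EGA4.FibLocRing A B q))
    (hgh : ∀ x, h (g x) = 0)
    (hhom : ∀ a ∈ J, ∃ (k : ℕ) (t : (Fin N → B) →ₗ[B] F) (s : (Fin M → B) →ₗ[B] (Fin N → B)),
      (∀ x, t (g x) = a ^ k • x) ∧ ∀ y, g (t y) + s (h y) = a ^ k • y)
    (hG : ∀ r : PrimeSpectrum B, ¬ J ≤ r.asIdeal → ∃ (k : ℕ) (α : ((Fin M → B) ⧸ LinearMap.range h) →ₗ[B] (Fin k → B))
      (β : (Fin k → B) →ₗ[B] ((Fin M → B) ⧸ LinearMap.range h)) (s : r.asIdeal.primeCompl),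
        ∀ x, β (α x) = (s : B) • x)
    (hdd : FlatCA.FlatAt A q (Module.Dual B (Module.Dual B F)) ∧
      LocCoh.HasSk 2 (EGA4.FibLocRing A B q) (EGA4.FibLocMod A B q (Module.Dual B (Module.Dual B F)))) :
    FlatCA.FlatAt A q ((Fin M → B) ⧸ LinearMap.range h) := by
  classical
  let X := Localization.AtPrime q
  let D := EGA4.FibLocRing A B q
  haveI : IsNoetherianRing X := IsLocalization.isNoetherianRing q.primeCompl _ inferInstance
  haveI : Module.Flat A X := Module.Flat.trans A B X
  haveI : Module.Flat A (Fin N → B) := Module.Flat.trans A B _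
  haveI : Module.Flat A (Fin M → B) := Module.Flat.trans A B _
  obtain ⟨ϖ, hϖ⟩ := IsDiscreteValuationRing.exists_irreducible A
  let t : X := algebraMap A X ϖ
  have hIt : (q.comap (algebraMap A B)).map (algebraMap A X) = Ideal.span {t} := by
    rw [hqm, hϖ.maximalIdeal_eq, Ideal.map_span, Set.image_singleton]
  have htm : t ∈ maximalIdeal X := by
    rw [show t = algebraMap B X (algebraMap A B ϖ) from IsScalarTower.algebraMap_apply A B X ϖ,
      IsLocalization.AtPrime.to_map_mem_maximal_iff X q, ← Ideal.mem_comap, hqm, hϖ.maximalIdeal_eq]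
    exact Ideal.mem_span_singleton_self ϖ
  have htreg : IsSMulRegular X t := (IsSMulRegular.of_ne_zero hϖ.ne_zero).of_flat
  have hD : 2 ≤ LocCoh.idealDepth (J.map (algebraMap B D)) D := hD'
  have hdep : 2 ≤ LocCoh.idealDepth (J.map (algebraMap B X) ⊔ Ideal.span {t}) X ∧
      2 ≤ LocCoh.idealDepth (J.map (algebraMap B X)) X := by
    refine depth_sup_span_of_quotient _ t htm htreg ?_
    have heq : (Ideal.span {t} • (⊤ : Submodule X X)) = (q.comap (algebraMap A B)).map (algebraMap A X) := by
      rw [smul_eq_mul, Ideal.mul_top, hIt]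
    rw [GrothLib.Depth.idealDepth_eq_of_equiv (R := X) (N := D) _ (Submodule.quotEquivOfEq _ _ heq),
      ← GrothLib.Depth.idealDepth_map_eq (B := D), Ideal.map_map, ← IsScalarTower.algebraMap_eq]
    exact_mod_cast hD
  have hDX := hdep.2
  let K := LinearMap.ker h
  let dd := Module.Dual B (Module.Dual B F)
  haveI := finite_dual (B := B) F
  haveI := finite_dual (B := B) (Module.Dual B F)
  haveI : Module.Finite B K := Module.Finite.iff_fg.2 (IsNoetherian.noetherian _)
  let p : Fin N → Module.Dual B F := fun i => (LinearMap.proj i).comp g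
  let Θ₀ : dd →ₗ[B] (Fin N → B) :=
    { toFun := fun θ i => θ (p i), map_add' := fun _ _ => rfl, map_smul' := fun _ _ => rfl }
  have hexp : ∀ v : Fin N → B, v = ∑ i, v i • (Pi.single i (1 : B) : Fin N → B) := fun v => by
    funext j; simp [Finset.sum_apply, Pi.single_apply]
  have hΘ₀ : ∀ θ, h (Θ₀ θ) = 0 := fun θ => by
    funext j
    have e1 : ∑ i, h (Pi.single i 1) j • p i = 0 := LinearMap.ext fun z => by
      have := congrFun (hgh z) j
      rw [hexp (g z), map_sum, Finset.sum_apply] at this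
      simp only [map_smul, Pi.smul_apply, smul_eq_mul, Pi.zero_apply] at this
      rw [LinearMap.sum_apply, LinearMap.zero_apply]
      refine Eq.trans (Finset.sum_congr rfl fun i _ => ?_) this
      show h (Pi.single i 1) j * g z i = g z i * h (Pi.single i 1) j
      exact mul_comm _ _
    have := congrArg θ e1
    rw [map_zero, map_sum] at this
    rw [hexp (Θ₀ θ), map_sum, Finset.sum_apply, Pi.zero_apply]
    refine Eq.trans (Finset.sum_congr rfl fun i _ => ?_) this
    rw [map_smul, map_smul, Pi.smul_apply, smul_eq_mul, smul_eq_mul, mul_comm]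
    rfl
  let Θ : dd →ₗ[B] K := Θ₀.codRestrict _ fun θ => LinearMap.mem_ker.2 (hΘ₀ θ)
  let ev := Module.Dual.eval B F
  have hΘev : ∀ x, Θ₀ (ev x) = g x := fun x => rfl
  have hback : ∀ (t : (Fin N → B) →ₗ[B] F) (c : B), (∀ x, t (g x) = c • x) → ∀ θ : dd, ev (t (Θ₀ θ)) = c • θ := by
    intro t c htc θ
    refine LinearMap.ext fun φ => ?_
    show φ (t (Θ₀ θ)) = c * θ φ
    have e2 : ∑ i, φ (t (Pi.single i 1)) • p i = c • φ := LinearMap.ext fun z => by
      rw [LinearMap.smul_apply, ← map_smul φ, ← htc z, LinearMap.sum_apply]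
      conv_rhs => rw [hexp (g z), map_sum, map_sum]
      refine Finset.sum_congr rfl fun i _ => ?_
      rw [map_smul, map_smul, smul_eq_mul, mul_comm]
      rfl
    have := congrArg θ e2
    rw [map_sum, map_smul, smul_eq_mul] at this
    rw [← this, hexp (Θ₀ θ), map_sum, map_sum]
    refine Finset.sum_congr rfl fun i _ => ?_
    rw [map_smul, map_smul, map_smul, smul_eq_mul, smul_eq_mul, mul_comm]
    rfl
  have hinv : ∀ a ∈ J, ∃ (k : ℕ) (σ : K →ₗ[B] dd), (∀ x, σ (Θ x) = a ^ k • x) ∧ ∀ y, Θ (σ y) = a ^ k • y := by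
    intro a ha
    obtain ⟨k, t, s, htg, hgt⟩ := hhom a ha
    refine ⟨k, (ev.comp t).comp K.subtype, fun θ => hback t _ htg θ, fun y => Subtype.ext ?_⟩
    show Θ₀ (ev (t y.1)) = a ^ k • y.1
    have := hgt y.1
    rwa [LinearMap.mem_ker.1 y.2, map_zero, add_zero] at this
  have hddX : 2 ≤ LocCoh.idealDepth (J.map (algebraMap B X)) (LocalizedModule q.primeCompl dd) :=
    two_le_depth_localized_dual q _ hDX (Module.Dual B F)
  haveI : Module.Finite X (LocalizedModule q.primeCompl K) :=
    Module.Finite.of_isLocalizedModule q.primeCompl (LocalizedModule.mkLinearMap q.primeCompl K)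
  haveI : Module.Finite X (LocalizedModule q.primeCompl dd) :=
    Module.Finite.of_isLocalizedModule q.primeCompl (LocalizedModule.mkLinearMap q.primeCompl dd)
  haveI : Module.Finite X (LocalizedModule q.primeCompl (Fin N → B)) :=
    Module.Finite.of_isLocalizedModule q.primeCompl (LocalizedModule.mkLinearMap q.primeCompl _)
  haveI : Module.Finite X (LocalizedModule q.primeCompl (Fin M → B)) :=
    Module.Finite.of_isLocalizedModule q.primeCompl (LocalizedModule.mkLinearMap q.primeCompl _)
  have hexK : Function.Exact K.subtype h := LinearMap.exact_subtype_ker_map h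
  have hKX : 2 ≤ LocCoh.idealDepth (J.map (algebraMap B X)) (LocalizedModule q.primeCompl K) :=
    GrothLib.DepthKer.two_le_of_exact _ (LocalizedModule.map q.primeCompl K.subtype)
      (LocalizedModule.map q.primeCompl h) (LocalizedModule.map_injective _ _ K.injective_subtype)
      (LocalizedModule.map_exact _ _ _ hexK)
      (le_idealDepth_localized_free q _ 2 hDX (LinearEquiv.refl B (Fin N → B)))
      (le_idealDepth_localized_free q _ 1 ((one_le_two).trans hDX) (LinearEquiv.refl B (Fin M → B)))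
  let eΘ : LocalizedModule q.primeCompl dd ≃ₗ[X] LocalizedModule q.primeCompl K :=
    LinearEquiv.ofBijective (LocalizedModule.map q.primeCompl Θ)
      (bijective_localized q J Θ hinv hddX ((one_le_two).trans hKX))
  have hKflat : FlatCA.FlatAt A q K := by
    haveI : Module.Flat A (LocalizedModule q.primeCompl dd) := hdd.1
    exact Module.Flat.of_linearEquiv (eΘ.restrictScalars A).symm
  let I : Ideal X := (q.comap (algebraMap A B)).map (algebraMap A X)
  have hTF : TF (J.map (algebraMap B X)) (LocalizedModule q.primeCompl dd) :=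
    tf_of_idealDepth ((one_le_two).trans hddX)
  have hfree : ∀ Q : Ideal X, Q.IsPrime → ¬ J.map (algebraMap B X) ≤ Q → ∃ (k : ℕ)
      (α : LocalizedModule q.primeCompl dd →ₗ[X] (Fin k → X))
      (β : (Fin k → X) →ₗ[X] LocalizedModule q.primeCompl dd) (s : X), s ∉ Q ∧ ∀ x, β (α x) = s • x := by
    intro Q hQ hJQ
    obtain ⟨a, ha, haQ⟩ := Set.not_subset.1 (show ¬ (J : Set B) ⊆ Q.comap (algebraMap B X) from
      fun hs => hJQ (Ideal.map_le_iff_le_comap.2 hs))
    obtain ⟨k, t, s, htg, -⟩ := hhom a ha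
    obtain ⟨α', β', h'⟩ := localized_factor q Θ₀ (ev.comp t) (a ^ k) (fun θ => hback t _ htg θ)
    exact ⟨N, α', β', _, fun hmem => haQ (hQ.mem_of_pow_mem k (by rwa [map_pow] at hmem)), h'⟩
  have hJD : J.map (algebraMap B D) = (J.map (algebraMap B X)).map (Ideal.Quotient.mk I) := by
    rw [Ideal.map_map]; rfl
  have hddfib : 2 ≤ LocCoh.idealDepth (J.map (algebraMap B D)) (EGA4.FibLocMod A B q dd) := by
    rw [hJD]
    exact two_le_depth_of_hasSk_principal I (J.map (algebraMap B X)) t hIt (by rw [show I = Ideal.span {t} from hIt]; exact hdep.1) hTF hfree (hJD ▸ hD) hdd.2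
  have hKfib : 2 ≤ LocCoh.idealDepth (J.map (algebraMap B D)) (EGA4.FibLocMod A B q K) := by
    let efib : EGA4.FibLocMod A B q dd ≃ₗ[X] EGA4.FibLocMod A B q K := Submodule.Quotient.equiv _ _ eΘ (by
      rw [Submodule.map_smul'', Submodule.map_top, LinearEquiv.range])
    haveI : Module.Finite X (EGA4.FibLocMod A B q dd) := inferInstance
    haveI : Module.Finite X (EGA4.FibLocMod A B q K) := Module.Finite.equiv efib
    haveI : Module.Finite D (EGA4.FibLocMod A B q dd) := Module.Finite.of_restrictScalars_finite X D _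
    haveI : Module.Finite D (EGA4.FibLocMod A B q K) := Module.Finite.of_restrictScalars_finite X D _
    rw [IsScalarTower.algebraMap_eq B X D, ← Ideal.map_map, GrothLib.Depth.idealDepth_map_eq] at hddfib ⊢
    exact hddfib.trans (GrothLib.Depth.idealDepth_eq_of_equiv _ efib).le
  have h0 : ∀ n : ℕ, 2 ≤ LocCoh.idealDepth (J.map (algebraMap B X)) (EGA4.FibLocMod A B q (Fin n → B)) :=
    fun n => by exact_mod_cast le_idealDepth_fibLocMod_free J q 2 (by exact_mod_cast hD) n
  exact (key_at_prime J K.subtype h (LinearMap.range h).mkQ K.injective_subtype hexK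
    (LinearMap.exact_map_mkQ_range h) (Submodule.mkQ_surjective _) hG q (h0 N)
    ((one_le_two).trans (h0 M))).2 ⟨hKflat, hKfib⟩

end Step

end GrothLib.FlatValCrit1
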