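import Groth.Agent.S6352
import Groth.Agent.S6919
import Groth.Agent.S6925
import Groth.Agent.S6926
import Groth.Agent.Lib.FibProp5.DvrMaps
import Groth.Agent.Lib.Flattening.Transfer
import Groth.Agent.Lib.Flattening.Complete
import Mathlib

/-!
# The valuative criterion of flatness over a reduced Noetherian base

Universal flattening over the completion gives an ideal killed by every map to a discrete valuation
ring finite over the completion, hence nilpotent; flatness after base change to the total fraction
ring then forces flatness over the completion, which descends.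
-/

set_option autoImplicit false
set_option linter.style.haveILetI false
universe u

open TensorProduct IsLocalRing

namespace GrothLib.FlatValCrit1

attribute [local instance] Algebra.TensorProduct.rightAlgebra

/-- Flatness at a prime passes to smaller primes. -/
theorem flatAt_of_le {A B M : Type u} [CommRing A] [CommRing B] [Algebra A B] [AddCommGroup M] [Module B M]
    [Module A M] [IsScalarTower A B M] (q q' : Ideal B) [q.IsPrime] [q'.IsPrime] (h : q ≤ q')
    (hf : FlatCA.FlatAt A q' M) : FlatCA.FlatAt A q M := by
  rw [FlatAbove.flatAt_iff_killed] at hf ⊢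
  intro X Y _ _ _ _ f hinj z hz
  obtain ⟨s, hs, hsz⟩ := hf X Y f hinj z hz
  exact ⟨s, fun hm => hs (h hm), hsz⟩

/-- Localizing on the module keeps flatness of a base change. -/
theorem flat_baseChange_localized {R R' T P : Type u} [CommRing R] [CommRing R'] [CommRing T] [Algebra R R']
    [Algebra R T] [AddCommGroup P] [Module T P] [Module R P] [IsScalarTower R T P] (W : Submonoid T)
    [Module.Flat R' (R' ⊗[R] P)] : Module.Flat R' (R' ⊗[R] LocalizedModule W P) := by
  rw [Module.Flat.iff_rTensor_preserves_injective_linearMap]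
  intro X Y _ _ _ _ f hf
  letI : Module R X := Module.compHom X (algebraMap R R')
  letI : Module R Y := Module.compHom Y (algebraMap R R')
  haveI : IsScalarTower R R' X := IsScalarTower.of_algebraMap_smul fun _ _ => rfl
  haveI : IsScalarTower R R' Y := IsScalarTower.of_algebraMap_smul fun _ _ => rfl
  have hcancel : ∀ (Q : Type u) [AddCommGroup Q] [Module R Q] (z : X ⊗[R'] (R' ⊗[R] Q)),
      AlgebraTensorModule.cancelBaseChange R R' R' Y Q (f.rTensor (R' ⊗[R] Q) z) =
        (f.restrictScalars R).rTensor Q (AlgebraTensorModule.cancelBaseChange R R' R' X Q z) := fun Q _ _ z => by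
    induction z using TensorProduct.induction_on with
    | zero => simp
    | add a b ha hb => simp only [map_add, ha, hb]
    | tmul x w =>
      induction w using TensorProduct.induction_on with
      | zero => simp
      | add a b ha hb => simp only [TensorProduct.tmul_add, map_add, ha, hb]
      | tmul r p => simp
  let g : X →ₗ[R] Y := f.restrictScalars R
  have h0 : Function.Injective (g.rTensor P) := fun a b hab => by
    obtain ⟨a, rfl⟩ := (AlgebraTensorModule.cancelBaseChange R R' R' X P).surjective a
    obtain ⟨b, rfl⟩ := (AlgebraTensorModule.cancelBaseChange R R' R' X P).surjective b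
    rw [← hcancel, ← hcancel] at hab
    rw [Module.Flat.rTensor_preserves_injective_linearMap f hf
      ((AlgebraTensorModule.cancelBaseChange R R' R' Y P).injective hab)]
  have hP : Function.Injective (g.lTensor P) := (LinearMap.lTensor_inj_iff_rTensor_inj P g).2 h0
  let l : P →ₗ[T] LocalizedModule W P := LocalizedModule.mkLinearMap W P
  have hnat : ∀ z : P ⊗[R] X,
      AlgebraTensorModule.rTensor R Y l (g.lTensor P z) = g.lTensor _ (AlgebraTensorModule.rTensor R X l z) := fun z => by
    induction z using TensorProduct.induction_on with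
    | zero => simp only [map_zero]
    | tmul x y => rfl
    | add a b ha hb => simp only [map_add, ha, hb]
  have hW : Function.Injective (g.lTensor (LocalizedModule W P)) := by
    refine (injective_iff_map_eq_zero _).2 fun w hw => ?_
    obtain ⟨⟨z, s⟩, hz⟩ := IsLocalizedModule.surj W (AlgebraTensorModule.rTensor R X l) w
    have h1 : AlgebraTensorModule.rTensor R Y l (g.lTensor P z) = 0 := by
      rw [hnat, show AlgebraTensorModule.rTensor R X l z = (s : T) • w from hz.symm]
      show (AlgebraTensorModule.lTensor T _ g) ((s : T) • w) = 0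
      rw [map_smul]
      exact (congrArg ((s : T) • ·) hw).trans (smul_zero _)
    obtain ⟨t, ht⟩ := (IsLocalizedModule.eq_zero_iff W (AlgebraTensorModule.rTensor R Y l)).1 h1
    have htz : (t : T) • z = 0 := hP (by
      rw [map_zero]
      show (AlgebraTensorModule.lTensor T P g) ((t : T) • z) = 0
      rw [map_smul]; exact ht)
    have h2 : ((t * s : W) : T) • w = 0 := by
      rw [Submonoid.coe_mul, mul_smul, show (s : T) • w = AlgebraTensorModule.rTensor R X l z from hz, ← map_smul, htz,
        map_zero]
    exact ((Module.End.isUnit_iff _).1 (IsLocalizedModule.map_units (AlgebraTensorModule.rTensor R X l) (t * s))).injective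
      (h2.trans (map_zero _).symm)
  intro a b hab
  apply (AlgebraTensorModule.cancelBaseChange R R' R' X (LocalizedModule W P)).injective
  refine (LinearMap.lTensor_inj_iff_rTensor_inj _ g).1 hW ?_
  rw [← hcancel, ← hcancel, hab]

/-- A reduced Noetherian ring embeds into a ring over which all modules are flat. -/
theorem exists_absolutelyFlat_embedding (A : Type u) [CommRing A] [IsNoetherianRing A] [IsReduced A] :
    ∃ (K : Type u) (_ : CommRing K) (_ : Algebra A K), Function.Injective (algebraMap A K) ∧
      ∀ (N : Type u) [AddCommGroup N] [Module K N], Module.Flat K N := by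
  classical
  haveI : Finite (minimalPrimes A) := (minimalPrimes.finite_of_isNoetherianRing A).to_subtype
  haveI : ∀ p : minimalPrimes A, p.1.IsPrime := fun p => p.2.1.1
  refine ⟨∀ p : minimalPrimes A, FractionRing (A ⧸ p.1), inferInstance, inferInstance, ?_, fun N _ _ => ?_⟩
  · refine (injective_iff_map_eq_zero _).2 fun a ha => ?_
    have : a ∈ nilradical A := by
      rw [nilradical, ← Ideal.sInf_minimalPrimes, Submodule.mem_sInf]
      intro (p : Ideal A) hp
      haveI : p.IsPrime := hp.1.1
      have h1 : algebraMap (A ⧸ p) (FractionRing (A ⧸ p)) (Ideal.Quotient.mk p a) = 0 := congrFun ha ⟨p, hp⟩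
      exact Ideal.Quotient.eq_zero_iff_mem.1 (IsFractionRing.injective _ _ (h1.trans (map_zero _).symm))
    rwa [nilradical_eq_zero A, Submodule.zero_eq_bot, Ideal.mem_bot] at this
  · haveI : IsSemisimpleRing (∀ p : minimalPrimes A, FractionRing (A ⧸ p.1)) := inferInstance
    haveI : Module.Projective (∀ p : minimalPrimes A, FractionRing (A ⧸ p.1)) N := Module.projective_of_isSemisimpleRing _ _
    infer_instance

/-- The residue field of a finite algebra over the completion is integral over the original ring. -/
theorem isIntegral_residueField {A R V : Type u} [CommRing A] [CommRing R] [IsLocalRing R] [CommRing V] [IsLocalRing V]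
    [Algebra A R] [Algebra R V] [Algebra A V] [IsScalarTower A R V] [IsLocalHom (algebraMap R V)]
    (hsurj : ∀ r : R, ∃ a : A, r - algebraMap A R a ∈ maximalIdeal R) [Module.Finite R V] :
    Algebra.IsIntegral A (ResidueField V) := by
  have him : ∀ r : R, residue V (algebraMap R V r) ∈ Set.range (algebraMap A (ResidueField V)) := fun r => by
    obtain ⟨a, ha⟩ := hsurj r
    refine ⟨a, ?_⟩
    have : residue V (algebraMap R V (r - algebraMap A R a)) = 0 := by
      rw [residue_eq_zero_iff, mem_maximalIdeal, mem_nonunits_iff, isUnit_map_iff, ← mem_nonunits_iff, ← mem_maximalIdeal]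
      exact ha
    rw [map_sub, map_sub, sub_eq_zero, ← IsScalarTower.algebraMap_apply A R V] at this
    exact this.symm
  refine ⟨fun x => ?_⟩
  obtain ⟨v, rfl⟩ := residue_surjective x
  obtain ⟨p, hp, hpv⟩ := Algebra.IsIntegral.isIntegral (R := R) v
  have hlift : p.map ((residue V).comp (algebraMap R V)) ∈ Polynomial.lifts (algebraMap A (ResidueField V)) := by
    rw [Polynomial.lifts_iff_coeff_lifts]
    intro k
    rw [Polynomial.coeff_map]
    exact him _
  obtain ⟨q, hq, -, hqm⟩ := Polynomial.lifts_and_natDegree_eq_and_monic hlift (hp.map _)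
  refine ⟨q, hqm, ?_⟩
  rw [← Polynomial.eval_map, hq, Polynomial.eval_map, ← Polynomial.hom_eval₂, hpv, map_zero]

/-- Valuative criterion of flatness, local source. -/
theorem flat_of_forall_dvr_local {A : Type u} [CommRing A] [IsNoetherianRing A] [IsLocalRing A] [IsReduced A]
    {B : Type u} [CommRing B] [IsLocalRing B] [Algebra A B] [IsLocalHom (algebraMap A B)]
    [IsNoetherianRing (AdicCompletion (maximalIdeal A) A ⊗[A] B)]
    (M : Type u) [AddCommGroup M] [Module B M] [Module A M] [IsScalarTower A B M] [Module.Finite B M]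
    (h : ∀ (V : Type u) [CommRing V] [IsDomain V] [IsDiscreteValuationRing V] [Algebra A V]
      [IsLocalHom (algebraMap A V)], Algebra.IsIntegral A (ResidueField V) →
      ∀ (r : Ideal (V ⊗[A] B)) [r.IsPrime], r.comap (algebraMap V (V ⊗[A] B)) = maximalIdeal V →
        FlatCA.FlatAt V r ((V ⊗[A] B) ⊗[B] M)) :
    Module.Flat A M := by
  let R := AdicCompletion (maximalIdeal A) A
  haveI : IsNoetherianRing R := inferInstance
  haveI : Module.Flat A R := AdicCompletion.flat_of_isNoetherian _
  let T := R ⊗[A] B
  let P := T ⊗[B] M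
  haveI : IsNoetherianRing T := ‹_›
  haveI : IsScalarTower R T P := TensorProduct.isScalarTower_left
  haveI : Algebra.IsPushout A B R T := Algebra.IsPushout.symm inferInstance
  obtain ⟨I, hIm, hI, hmin⟩ := Groth.Agent.S6925.result R T P
  have hmR : (maximalIdeal R).comap (algebraMap A R) = maximalIdeal A := Ideal.ext fun x => by simp
  have hres : ∀ r : R, ∃ a : A, r - algebraMap A R a ∈ maximalIdeal R := fun r => by
    obtain ⟨x, hx⟩ := (AdicCompletion.residueField_map_bijective A).2 (residue R r)
    obtain ⟨a, rfl⟩ := residue_surjective x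
    refine ⟨a, ?_⟩
    rw [← residue_eq_zero_iff, map_sub, sub_eq_zero]
    exact hx.symm
  have hIn : I ≤ nilradical R := fun a ha => by
    by_contra hn
    obtain ⟨V, _, _, _, _, φ, hφl, hφf, hφa⟩ :=
      GrothLib.FibProp5.exists_dvr_map (hIm ha) (fun h => hn (mem_nilradical.2 h))
    letI : Algebra R V := φ.toAlgebra
    letI : Algebra A V := (φ.comp (algebraMap A R)).toAlgebra
    haveI : IsScalarTower A R V := IsScalarTower.of_algebraMap_eq fun _ => rfl
    haveI : IsLocalHom (algebraMap R V) := hφl
    haveI : IsLocalHom (algebraMap A V) := RingHom.isLocalHom_comp φ (algebraMap A R)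
    haveI : Module.Finite R V := hφf
    let C := V ⊗[A] B
    let ψ : T →ₐ[A] C := Algebra.TensorProduct.map (IsScalarTower.toAlgHom A R V) (AlgHom.id A B)
    letI : Algebra T C := ψ.toRingHom.toAlgebra
    haveI : IsScalarTower R T C := IsScalarTower.of_algebraMap_eq fun r => by
      show _ = ψ (r ⊗ₜ 1)
      rw [Algebra.TensorProduct.map_tmul]
      rfl
    haveI : IsScalarTower B T C := IsScalarTower.of_algebraMap_eq fun b => by
      show _ = ψ (1 ⊗ₜ b)
      rw [Algebra.TensorProduct.map_tmul, map_one]
      rfl
    haveI : IsScalarTower A T C := IsScalarTower.of_algebraMap_eq fun a => (ψ.commutes a).symm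
    haveI : Algebra.IsPushout A V B C := inferInstance
    haveI : Algebra.IsPushout A R B T := inferInstance
    haveI : Algebra.IsPushout R V T C := (Algebra.IsPushout.comp_iff A R B T).1 inferInstance
    haveI : Algebra.IsPushout R T V C := Algebra.IsPushout.symm inferInstance
    haveI : SMulCommClass B T C := ⟨fun b t c => by rw [Algebra.smul_def, Algebra.smul_def, Algebra.smul_def, Algebra.smul_def, mul_left_comm]⟩
    haveI : IsScalarTower T C (C ⊗[B] M) := TensorProduct.isScalarTower_left
    haveI : IsScalarTower B T (C ⊗[B] M) := IsScalarTower.of_algebraMap_smul fun b x => by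
      rw [← algebraMap_smul C (algebraMap B T b) (x : C ⊗[B] M), ← IsScalarTower.algebraMap_apply B T C, algebraMap_smul]
    have hι : IsBaseChange T (TensorProduct.mk B T M 1) := TensorProduct.isBaseChange B M T
    let f := hι.lift (TensorProduct.mk B C M 1)
    have hf : IsBaseChange C f := hι.of_comp (h := f) (by
      rw [show (f : P →ₗ[T] C ⊗[B] M).restrictScalars B ∘ₗ TensorProduct.mk B T M 1 = TensorProduct.mk B C M 1 from hι.lift_comp _]
      exact TensorProduct.isBaseChange B M C)
    have hker := (Groth.Agent.S6926.result (R := R) (S := T) (R' := V) (S' := C) f hf I hIm hI hmin).1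
      fun r _ hr => h V (isIntegral_residueField (R := R) hres) r hr
    exact hφa (hker ha)
  obtain ⟨n, hn⟩ : IsNilpotent I := by
    obtain ⟨k, hk⟩ := IsNoetherianRing.isNilpotent_nilradical R
    exact ⟨k, le_bot_iff.1 ((Ideal.pow_right_mono hIn k).trans hk.le)⟩
  obtain ⟨K, _, _, hK, hKflat⟩ := exists_absolutelyFlat_embedding A
  let R' := R ⊗[A] K
  have hinj : Function.Injective (algebraMap R R') := fun x y hxy => by
    have h1 := Module.Flat.lTensor_preserves_injective_linearMap (M := R) (Algebra.linearMap A K) hK
    apply (TensorProduct.rid A R).symm.injective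
    apply h1
    show x ⊗ₜ[A] algebraMap A K 1 = y ⊗ₜ[A] algebraMap A K 1
    rw [map_one]
    exact hxy
  haveI : Module.Flat R' (R' ⊗[R] P) := by
    haveI := hKflat (K ⊗[A] M)
    haveI : Module.Flat R' (R' ⊗[K] (K ⊗[A] M)) := Module.Flat.baseChange K R' _
    haveI : Module.Flat R' (R' ⊗[A] M) := (GrothLib.Flattening.flat_cancel (A := A) (B := K) (C := R') M).1 this
    haveI : Module.Flat R' (R' ⊗[R] (R ⊗[A] M)) := (GrothLib.Flattening.flat_cancel (A := A) (B := R) (C := R') M).2 this
    exact Module.Flat.of_linearEquiv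
      (AlgebraTensorModule.congr (LinearEquiv.refl R' R') (Algebra.IsPushout.cancelBaseChange A R B T M))
  have hflat : ∀ (q : Ideal T) [q.IsPrime], q.comap (algebraMap R T) = maximalIdeal R → FlatCA.FlatAt R q P := by
    intro q _ hq
    haveI := hI q hq
    haveI := flat_baseChange_localized (R := R) (R' := R') (T := T) (P := P) q.primeCompl
    exact Groth.Agent.S6352.result R R' hinj I ⟨n, hn⟩ _
  have hloc : (maximalIdeal B).comap (algebraMap A B) = maximalIdeal A :=
    Ideal.ext fun x => by simp
  have hdesc := Groth.Agent.S6919.result (R := A) (S := B) (R' := R) (S' := T) (maximalIdeal A) (maximalIdeal R)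
    (by rw [Ideal.map_le_iff_le_comap, hmR]) (TensorProduct.mk B T M 1) (TensorProduct.isBaseChange B M T) ⊥
    (fun p hp hle => ⟨maximalIdeal R, inferInstance, le_rfl,
      hmR.trans ((maximalIdeal.isMaximal A).eq_of_le hp.ne_top hle)⟩)
    (fun p' _ _ => Module.Flat.trans A R (Localization.AtPrime p'))
    (fun q hq hle => hflat q ((maximalIdeal.isMaximal R).eq_of_le (Ideal.IsPrime.ne_top inferInstance)
      (Ideal.map_le_iff_le_comap.1 (le_sup_left.trans hle))).symm)
    (maximalIdeal B) (sup_le (Ideal.map_le_iff_le_comap.2 (le_of_eq hloc.symm)) bot_le)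
  rw [FlatAbove.flatAt_iff_killed] at hdesc
  rw [Module.Flat.iff_lTensor_preserves_injective_linearMap]
  intro X Y _ _ _ _ g hg
  refine (injective_iff_map_eq_zero _).2 fun z hz => ?_
  obtain ⟨s, hs, hsz⟩ := hdesc X Y g hg z hz
  exact (notMem_maximalIdeal.1 hs).smul_eq_zero.1 hsz

/-- In the base change along an algebra with integral residue field, the maximal points over the closed
point lie over maximal points. -/
theorem isMaximal_comap {A V B : Type u} [CommRing A] [CommRing V] [IsLocalRing V] [CommRing B] [Algebra A V]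
    [Algebra A B] [Algebra.IsIntegral A (ResidueField V)] (r : Ideal (V ⊗[A] B)) [r.IsMaximal]
    (hr : maximalIdeal V ≤ r.comap (algebraMap V (V ⊗[A] B))) :
    (r.comap (algebraMap B (V ⊗[A] B))).IsMaximal := by
  let F := (V ⊗[A] B) ⧸ r
  let π : (V ⊗[A] B) →+* F := Ideal.Quotient.mk r
  let η : B →+* F := π.comp (algebraMap B (V ⊗[A] B))
  let ε : ResidueField V →+* F := Ideal.Quotient.lift _ (π.comp (algebraMap V (V ⊗[A] B))) fun v hv =>
    Ideal.Quotient.eq_zero_iff_mem.2 (hr hv)
  have hint : η.IsIntegral := fun x => by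
    obtain ⟨z, rfl⟩ := Ideal.Quotient.mk_surjective x
    induction z using TensorProduct.induction_on with
    | zero => rw [map_zero]; exact η.isIntegralElem_zero
    | add a b ha hb => rw [map_add]; exact RingHom.IsIntegralElem.add η ha hb
    | tmul v b =>
      have hvb : π (v ⊗ₜ b) = ε (residue V v) * η b := by
        show _ = π (algebraMap V _ v) * π (algebraMap B _ b)
        rw [← map_mul]
        congr 1
        show v ⊗ₜ[A] b = (v ⊗ₜ[A] 1) * (1 ⊗ₜ[A] b)
        rw [Algebra.TensorProduct.tmul_mul_tmul, mul_one, one_mul]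
      rw [hvb]
      refine RingHom.IsIntegralElem.mul η ?_ (η.isIntegralElem_map)
      obtain ⟨p, hp, hpv⟩ := Algebra.IsIntegral.isIntegral (R := A) (residue V v)
      refine ⟨p.map (algebraMap A B), hp.map _, ?_⟩
      have hηA : η.comp (algebraMap A B) = ε.comp (algebraMap A (ResidueField V)) := by
        ext a
        show π (algebraMap B _ (algebraMap A B a)) = ε (residue V (algebraMap A V a))
        show _ = π (algebraMap V _ (algebraMap A V a))
        rw [← IsScalarTower.algebraMap_apply A V]
        congr 1
        show (1 : V) ⊗ₜ[A] algebraMap A B a = algebraMap A (V ⊗[A] B) a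
        rw [Algebra.TensorProduct.algebraMap_apply, Algebra.algebraMap_eq_smul_one, Algebra.algebraMap_eq_smul_one,
          TensorProduct.tmul_smul, TensorProduct.smul_tmul']
      rw [Polynomial.eval₂_map, hηA, ← Polynomial.hom_eval₂, hpv, map_zero]
  letI : Algebra B F := η.toAlgebra
  haveI : Algebra.IsIntegral B F := ⟨hint⟩
  have hk : (⊥ : Ideal F).comap (algebraMap B F) = r.comap (algebraMap B (V ⊗[A] B)) := by
    show (⊥ : Ideal F).comap (π.comp _) = _
    rw [← Ideal.comap_comap, ← RingHom.ker_eq_comap_bot, Ideal.mk_ker]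
  rw [← hk]
  haveI : (⊥ : Ideal F).IsMaximal := Ideal.Quotient.maximal_of_isField _
    ((Ideal.Quotient.maximal_ideal_iff_isField_quotient r).1 inferInstance |> fun hF => by
      exact (RingEquiv.quotientBot F).toMulEquiv.isField hF)
  exact Ideal.isMaximal_comap_of_isIntegral_of_isMaximal _

/-- The base change of a localization of a finite type algebra to a Noetherian algebra is Noetherian. -/
theorem isNoetherianRing_baseChange_localization {A R B : Type u} [CommRing A] [CommRing R] [Algebra A R]
    [IsNoetherianRing R] [CommRing B] [Algebra A B] [Algebra.FiniteType A B] (n : Ideal B) [n.IsPrime] :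
    IsNoetherianRing (R ⊗[A] Localization.AtPrime n) := by
  let X := Localization.AtPrime n
  haveI : IsNoetherianRing (R ⊗[A] B) := Algebra.FiniteType.isNoetherianRing R _
  let ψ : R ⊗[A] B →ₐ[A] R ⊗[A] X := Algebra.TensorProduct.map (AlgHom.id A R) (IsScalarTower.toAlgHom A B X)
  letI : Algebra (R ⊗[A] B) (R ⊗[A] X) := ψ.toRingHom.toAlgebra
  letI : Algebra B (R ⊗[A] X) := ((algebraMap X (R ⊗[A] X)).comp (algebraMap B X)).toAlgebra
  haveI : IsScalarTower B X (R ⊗[A] X) := IsScalarTower.of_algebraMap_eq fun _ => rfl
  haveI : IsScalarTower A B (R ⊗[A] X) := IsScalarTower.of_algebraMap_eq fun a => by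
    show _ = algebraMap X (R ⊗[A] X) (algebraMap B X (algebraMap A B a))
    rw [← IsScalarTower.algebraMap_apply A B X, ← IsScalarTower.algebraMap_apply A X (R ⊗[A] X)]
  haveI : IsScalarTower B (R ⊗[A] B) (R ⊗[A] X) := IsScalarTower.of_algebraMap_eq fun b => by
    show _ = ψ (1 ⊗ₜ b)
    rw [Algebra.TensorProduct.map_tmul, map_one]
    rfl
  haveI : IsScalarTower R (R ⊗[A] B) (R ⊗[A] X) := IsScalarTower.of_algebraMap_eq fun b => by
    show _ = ψ (b ⊗ₜ 1)
    rw [Algebra.TensorProduct.map_tmul, map_one]
    rfl
  haveI : IsScalarTower A (R ⊗[A] B) (R ⊗[A] X) := IsScalarTower.of_algebraMap_eq fun a => (ψ.commutes a).symm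
  haveI : Algebra.IsPushout A B R (R ⊗[A] B) := Algebra.IsPushout.symm inferInstance
  haveI : Algebra.IsPushout A X R (R ⊗[A] X) := Algebra.IsPushout.symm inferInstance
  haveI hpo : Algebra.IsPushout B X (R ⊗[A] B) (R ⊗[A] X) :=
    (Algebra.IsPushout.comp_iff A B R (R ⊗[A] B)).1 inferInstance
  haveI : Algebra.IsPushout B (R ⊗[A] B) X (R ⊗[A] X) := hpo.symm
  haveI := (Algebra.isLocalization_iff_isPushout n.primeCompl X).2
    (inferInstance : Algebra.IsPushout B (R ⊗[A] B) X (R ⊗[A] X))
  exact IsLocalization.isNoetherianRing (Algebra.algebraMapSubmonoid (R ⊗[A] B) n.primeCompl) _ inferInstance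

/-- Flatness on the base change of a localization is read on the base change. -/
theorem flatAt_baseChange_localization {A B X : Type u} [CommRing A] [CommRing B] [CommRing X] [Algebra A B]
    [Algebra A X] [Algebra B X] [IsScalarTower A B X] (W : Submonoid B) [IsLocalization W X]
    {M N : Type u} [AddCommGroup M] [Module B M] [AddCommGroup N] [Module X N] [Module B N] [IsScalarTower B X N]
    (l : M →ₗ[B] N) [IsLocalizedModule W l] (V : Type u) [CommRing V] [Algebra A V] (r : Ideal (V ⊗[A] X)) [r.IsPrime]
    (h : ∀ (q : Ideal (V ⊗[A] B)) [q.IsPrime],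
      q.comap (algebraMap B (V ⊗[A] B)) = (r.comap (algebraMap X (V ⊗[A] X))).comap (algebraMap B X) →
      q.comap (algebraMap V (V ⊗[A] B)) = r.comap (algebraMap V (V ⊗[A] X)) →
      FlatCA.FlatAt V q ((V ⊗[A] B) ⊗[B] M)) :
    FlatCA.FlatAt V r ((V ⊗[A] X) ⊗[X] N) := by
  haveI : Algebra.IsPushout A X V (V ⊗[A] X) := Algebra.IsPushout.symm inferInstance
  obtain ⟨ψ, hψV, hψB, hψflat, -⟩ := GrothLib.Flattening.exists_model_map (R := A) (S₀ := B) (S := X) W
    l V (V ⊗[A] X) ((V ⊗[A] X) ⊗[X] N) (TensorProduct.mk X _ N 1) (TensorProduct.isBaseChange X N _)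
  refine (hψflat r).2 (h _ ?_ ?_)
  · rw [Ideal.comap_comap, show ψ.comp (algebraMap B (V ⊗[A] B)) = (algebraMap X (V ⊗[A] X)).comp (algebraMap B X) from
      RingHom.ext hψB, ← Ideal.comap_comap]
  · rw [Ideal.comap_comap, show ψ.comp (algebraMap V (V ⊗[A] B)) = algebraMap V (V ⊗[A] X) from RingHom.ext hψV]

set_option maxHeartbeats 1000000 in
/-- **Valuative criterion of flatness** at a point over the closed point of a reduced Noetherian local ring. -/
theorem flatAt_of_forall_dvr {A : Type u} [CommRing A] [IsNoetherianRing A] [IsLocalRing A] [IsReduced A]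
    {B : Type u} [CommRing B] [Algebra A B] [Algebra.FiniteType A B] (n : Ideal B) [n.IsPrime]
    (hn : n.comap (algebraMap A B) = maximalIdeal A)
    (M : Type u) [AddCommGroup M] [Module B M] [Module A M] [IsScalarTower A B M] [Module.Finite B M]
    (h : ∀ (V : Type u) [CommRing V] [IsDomain V] [IsDiscreteValuationRing V] [Algebra A V]
      [IsLocalHom (algebraMap A V)], ∀ (q : Ideal (V ⊗[A] B)) [q.IsPrime],
        q.comap (algebraMap B (V ⊗[A] B)) = n → q.comap (algebraMap V (V ⊗[A] B)) = maximalIdeal V →
        FlatCA.FlatAt V q ((V ⊗[A] B) ⊗[B] M)) :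
    FlatCA.FlatAt A n M := by
  let X := Localization.AtPrime n
  let N := LocalizedModule n.primeCompl M
  let R := AdicCompletion (maximalIdeal A) A
  haveI : IsNoetherianRing R := inferInstance
  haveI : IsLocalHom (algebraMap A X) := ((IsLocalRing.local_hom_TFAE (algebraMap A X)).out 0 4).2 (by
    rw [IsScalarTower.algebraMap_eq A B X, ← Ideal.comap_comap]
    exact (congrArg (Ideal.comap (algebraMap A B)) (IsLocalization.AtPrime.comap_maximalIdeal X n)).trans hn)
  haveI : IsNoetherianRing (R ⊗[A] X) := isNoetherianRing_baseChange_localization (R := R) n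
  haveI : Module.Finite X N := Module.Finite.of_isLocalizedModule n.primeCompl (LocalizedModule.mkLinearMap n.primeCompl M)
  haveI : IsScalarTower A X N := IsScalarTower.of_algebraMap_smul fun a x => by
    rw [IsScalarTower.algebraMap_apply A B X, algebraMap_smul, algebraMap_smul]
  refine flat_of_forall_dvr_local (B := X) N ?_
  intro V _ _ _ _ _ hint r _ hr
  obtain ⟨r₂, hr₂, hle⟩ := Ideal.exists_le_maximal r (Ideal.IsPrime.ne_top inferInstance)
  haveI := hint
  have hV : r₂.comap (algebraMap V (V ⊗[A] X)) = maximalIdeal V :=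
    ((maximalIdeal.isMaximal V).eq_of_le (Ideal.IsPrime.ne_top inferInstance) (hr ▸ Ideal.comap_mono hle)).symm
  have hX : r₂.comap (algebraMap X (V ⊗[A] X)) = maximalIdeal X := eq_maximalIdeal (isMaximal_comap r₂ hV.ge)
  refine flatAt_of_le r r₂ hle (flatAt_baseChange_localization n.primeCompl
    (LocalizedModule.mkLinearMap n.primeCompl M) V r₂ fun q _ h₁ h₂ => h V q ?_ (h₂.trans hV))
  rw [h₁, hX]
  exact IsLocalization.AtPrime.comap_maximalIdeal X n

end GrothLib.FlatValCrit1
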