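import Groth.Agent.Lib.FlatOff.Infinitesimal
import Groth.Agent.Lib.FlatOff.BaseDepthMain
import Mathlib.RingTheory.Ideal.KrullsHeightTheorem

/-!
# `(S₂)` and depth along `J` over a discrete valuation ring
-/

set_option autoImplicit false
set_option linter.style.haveILetI false
universe u

open Function IsLocalRing GrothLib.FlatOff

namespace GrothLib.FlatValCrit1

variable {X : Type u} [CommRing X] (I : Ideal X) {K : Type u} [AddCommGroup K] [Module X K]

/-- Off `V(J)`, every prime has a generization with a specialization in `V(t)` still off `V(J)`. -/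
theorem exists_prime_in_fibre [IsNoetherianRing X] (J I : Ideal X) (t : X) (hIt : I = Ideal.span {t})
    (hX : 2 ≤ LocCoh.idealDepth (J ⊔ I) X) (P : Ideal X) [P.IsPrime] (hIP : I ≤ P) (Q₁ : Ideal X) [Q₁.IsPrime]
    (hQP : Q₁ ≤ P) (hQJ : ¬ J ≤ Q₁) :
    ∃ Q₀ Q : Ideal X, Q₀.IsPrime ∧ Q.IsPrime ∧ Q₀ ≤ Q₁ ∧ Q₀ ≤ Q ∧ Q ≤ P ∧ I ≤ Q ∧ ¬ J ≤ Q := by
  obtain ⟨Q₀, hQ₀, hQ₀Q⟩ := Ideal.exists_minimalPrimes_le (bot_le : (⊥ : Ideal X) ≤ Q₁)
  obtain ⟨r, hr, hrP⟩ := Ideal.exists_minimalPrimes_le (sup_le (hQ₀Q.trans hQP) hIP : Q₀ ⊔ I ≤ P)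
  haveI := hr.isPrime
  haveI := hQ₀.isPrime
  refine ⟨Q₀, r, hQ₀.isPrime, hr.isPrime, hQ₀Q, le_sup_left.trans hr.1.2, hrP, le_sup_right.trans hr.1.2, fun hJr => ?_⟩
  let Xr := Localization.AtPrime r
  haveI : IsNoetherianRing Xr := IsLocalization.isNoetherianRing r.primeCompl _ inferInstance
  have hd : 2 ≤ LocCoh.depth Xr Xr := by
    refine (hX.trans (GrothLib.Depth.idealDepth_le_localization (M := X) _ r
      (sup_le hJr (le_sup_right.trans hr.1.2)))).trans (le_of_eq ?_)
    haveI : Module.Finite Xr (LocalizedModule r.primeCompl X) :=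
      Module.Finite.of_isLocalizedModule r.primeCompl (LocalizedModule.mkLinearMap r.primeCompl X)
    exact GrothLib.Depth.idealDepth_eq_of_equiv _
      ((LocalizedModule.equivTensorProduct r.primeCompl X).trans (TensorProduct.AlgebraTensorModule.rid X Xr Xr))
  have hd0 : Disjoint (r.primeCompl : Set X) (Q₀ : Set X) :=
    Set.disjoint_left.2 fun x hx hxQ => hx (le_sup_left.trans hr.1.2 hxQ)
  haveI : (Q₀.map (algebraMap X Xr)).IsPrime :=
    IsLocalization.isPrime_of_isPrime_disjoint r.primeCompl Xr _ inferInstance hd0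
  obtain ⟨p₀, hp₀, hp₀Q⟩ := Ideal.exists_minimalPrimes_le (bot_le : (⊥ : Ideal Xr) ≤ Q₀.map (algebraMap X Xr))
  haveI := hp₀.isPrime
  have hp₀c : Q₀ ≤ p₀.comap (algebraMap X Xr) :=
    hQ₀.2 ⟨Ideal.comap_isPrime _ _, bot_le⟩ ((Ideal.comap_mono hp₀Q).trans
      (IsLocalization.comap_map_of_isPrime_disjoint r.primeCompl Xr inferInstance hd0).le)
  have hAss : p₀ ∈ associatedPrimes Xr Xr := by
    refine Module.associatedPrimes.minimalPrimes_annihilator_subset_associatedPrimes Xr Xr ?_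
    rw [Module.annihilator_eq_bot.2 (inferInstance : FaithfulSMul Xr Xr)]
    exact hp₀
  have hle : Ideal.span {algebraMap X Xr t} ≤ maximalIdeal Xr := by
    rw [Ideal.span_singleton_le_iff_mem, IsLocalization.AtPrime.to_map_mem_maximal_iff Xr r t]
    exact hr.1.2 (Ideal.mem_sup_right (hIt ▸ Ideal.mem_span_singleton_self t))
  have hmin : maximalIdeal Xr ∈ (p₀ ⊔ Ideal.span {algebraMap X Xr t}).minimalPrimes := by
    refine ⟨⟨inferInstance, sup_le (le_maximalIdeal hp₀.isPrime.ne_top) hle⟩, fun q hq hqm => ?_⟩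
    haveI := hq.1
    have h1 : r ≤ q.comap (algebraMap X Xr) := hr.2 ⟨Ideal.comap_isPrime _ _, sup_le
      (hp₀c.trans (Ideal.comap_mono (le_sup_left.trans hq.2))) (by
        rw [hIt, Ideal.span_singleton_le_iff_mem, Ideal.mem_comap]
        exact hq.2 (Ideal.mem_sup_right (Ideal.mem_span_singleton_self _)))⟩
      ((Ideal.comap_mono hqm).trans (IsLocalization.AtPrime.comap_maximalIdeal Xr r).le)
    rw [← Localization.AtPrime.map_eq_maximalIdeal]
    exact Ideal.map_le_iff_le_comap.2 h1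
  have hht := Ideal.map_height_le_one_of_mem_minimalPrimes hmin
  haveI : Nontrivial (Xr ⧸ p₀) := Ideal.Quotient.nontrivial_iff.2 hp₀.isPrime.ne_top
  haveI : IsLocalRing (Xr ⧸ p₀) := IsLocalRing.of_surjective' (Ideal.Quotient.mk p₀) Ideal.Quotient.mk_surjective
  have hmax : (maximalIdeal Xr).map (Ideal.Quotient.mk p₀) = maximalIdeal (Xr ⧸ p₀) := by
    refine eq_maximalIdeal (Ideal.IsMaximal.map_of_surjective_of_ker_le Ideal.Quotient.mk_surjective ?_)
    rw [Ideal.mk_ker]
    exact le_maximalIdeal hp₀.isPrime.ne_top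
  rw [hmax] at hht
  have h1 := (WithBot.coe_le_coe.2 hd).trans (GrothLib.Depth.depth_le_dim_quotient hAss)
  rw [← IsLocalRing.maximalIdeal_height_eq_ringKrullDim] at h1
  exact absurd ((WithBot.coe_le_coe.1 h1).trans hht) (by norm_num)

/-- over a base with principal maximal ideal, `(S₂)` of the fibre gives depth `≥ 2` along `J` -/
theorem two_le_depth_of_hasSk_principal [IsNoetherianRing X] [Module.Finite X K] (J : Ideal X)
    (t : X) (hIt : I = Ideal.span {t}) (hX : 2 ≤ LocCoh.idealDepth (J ⊔ I) X) (hTF : TF J K)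
    (hfree : ∀ Q : Ideal X, Q.IsPrime → ¬ J ≤ Q → ∃ (k : ℕ) (α : K →ₗ[X] (Fin k → X)) (β : (Fin k → X) →ₗ[X] K)
      (s : X), s ∉ Q ∧ ∀ x, β (α x) = s • x)
    (hD : 2 ≤ LocCoh.idealDepth (J.map (Ideal.Quotient.mk I)) (X ⧸ I))
    (hSk : LocCoh.HasSk 2 (X ⧸ I) (K ⧸ (I • ⊤ : Submodule X K))) :
    2 ≤ LocCoh.idealDepth (J.map (Ideal.Quotient.mk I)) (K ⧸ (I • ⊤ : Submodule X K)) := by
  let D := X ⧸ I
  let M := K ⧸ (I • ⊤ : Submodule X K)
  haveI : Module.Finite D M := Module.Finite.of_restrictScalars_finite X D M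
  by_contra hlt
  obtain ⟨d, hd, hd2⟩ : ∃ d : ℕ, LocCoh.idealDepth (J.map (Ideal.Quotient.mk I)) M = d ∧ d < 2 := by
    cases hd : LocCoh.idealDepth (J.map (Ideal.Quotient.mk I)) M using ENat.recTopCoe with
    | top => exact absurd (hd ▸ le_top) hlt
    | coe d => exact ⟨d, rfl, by
        by_contra hc
        exact hlt (hd ▸ (by exact_mod_cast not_lt.1 hc))⟩
  obtain ⟨P, hP, hle⟩ := GrothLib.Depth.exists_depth_localization_le _ d hd
  let DP := Localization.AtPrime P.asIdeal
  let MP := LocalizedModule P.asIdeal.primeCompl M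
  haveI : IsNoetherianRing DP := IsLocalization.isNoetherianRing P.asIdeal.primeCompl _ inferInstance
  haveI : Module.Finite DP MP :=
    Module.Finite.of_isLocalizedModule P.asIdeal.primeCompl (LocalizedModule.mkLinearMap P.asIdeal.primeCompl M)
  have hlt2 : LocCoh.depth DP MP < 2 := lt_of_le_of_lt hle (by exact_mod_cast hd2)
  have hnt : P ∈ Module.support D M := by
    by_contra hns
    haveI : Subsingleton MP := Module.notMem_support_iff.1 hns
    refine absurd hlt2 (not_lt.2 ?_)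
    rw [LocCoh.depth, LocCoh.idealDepth, if_pos (eq_top_iff.2 fun z _ => by
      rw [Subsingleton.elim z 0]; exact zero_mem _)]
    exact le_top
  let P' : Ideal X := P.asIdeal.comap (Ideal.Quotient.mk I)
  have hann : ∀ Q : Ideal X, Q.IsPrime → I ≤ Q → Module.annihilator X K ≤ Q →
      Module.annihilator D M ≤ Q.map (Ideal.Quotient.mk I) := fun Q hQ hQI hle c hc => by
    obtain ⟨c, rfl⟩ := Ideal.Quotient.mk_surjective c
    refine Ideal.mem_map_of_mem _ ?_
    have hmem : (⟨Q, hQ⟩ : PrimeSpectrum X) ∈ Module.support X M := by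
      rw [Module.support_quotient]
      exact ⟨Module.mem_support_iff_of_finite.2 hle, hQI⟩
    refine Module.mem_support_iff_of_finite.1 hmem (Module.mem_annihilator.2 fun m => ?_)
    exact Module.mem_annihilator.1 hc m
  by_cases hcase : ∃ Q : Ideal X, Q.IsPrime ∧ Q ≤ P' ∧ Module.annihilator X K ≤ Q ∧ ¬ J ≤ Q
  · obtain ⟨Q₁, hQ₁, hQ₁P, hQ₁ann, hQ₁J⟩ := hcase
    obtain ⟨Q₀, Q, hQ₀, hQ, hQ₀Q₁, hQ₀Q, hQP, hQI, hQJ⟩ := exists_prime_in_fibre J I t hIt hX P'
      (fun x hx => Ideal.mem_comap.2 (by rw [Ideal.Quotient.eq_zero_iff_mem.2 hx]; exact zero_mem _)) Q₁ hQ₁P hQ₁J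
    have hQann : Module.annihilator X K ≤ Q := fun c hc => hQ₀Q (by
      obtain ⟨k, α, β, s, hs, hαβ⟩ := hfree Q₁ hQ₁ hQ₁J
      haveI := GrothLib.FreeOff.free_localized_of_factor Q₁ ⟨s, hs⟩ α β hαβ
      obtain ⟨w, hw, hwc⟩ := exists_mul_eq_zero_of_free Q₁ (Module.mem_support_iff_of_finite.2 hQ₁ann) hc
      exact (hQ₀.mem_or_mem (show w * c ∈ Q₀ by rw [hwc]; exact zero_mem _)).resolve_left fun h => hw (hQ₀Q₁ h))
    let Qd : Ideal D := Q.map (Ideal.Quotient.mk I)
    have hQc : Qd.comap (Ideal.Quotient.mk I) = Q := by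
      rw [Ideal.comap_map_of_surjective _ Ideal.Quotient.mk_surjective, ← RingHom.ker_eq_comap_bot,
        Ideal.mk_ker, sup_eq_left]
      exact hQI
    haveI : Qd.IsPrime := Ideal.map_isPrime_of_surjective Ideal.Quotient.mk_surjective
      (by rw [Ideal.mk_ker]; exact hQI)
    have hQdP : Qd ≤ P.asIdeal := Ideal.map_le_iff_le_comap.2 hQP
    obtain ⟨k, α, β, s, hs, hαβ⟩ := hfree Q hQ hQJ
    obtain ⟨α', β', h'⟩ := exists_factor_quot I α β s hαβ
    haveI := GrothLib.FreeOff.free_localized_of_factor Qd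
      ⟨Ideal.Quotient.mk I s, fun h => hs (hQc ▸ (Ideal.mem_comap.2 h))⟩ α' β' h'
    have hQsupp : (⟨Qd, inferInstance⟩ : PrimeSpectrum D) ∈ Module.support D M :=
      Module.mem_support_iff_of_finite.2 (hann Q hQ hQI hQann)
    haveI : (Qd.map (algebraMap D DP)).IsPrime :=
      IsLocalization.isPrime_of_isPrime_disjoint P.asIdeal.primeCompl DP _ inferInstance
        (Set.disjoint_left.2 fun x hx hxQ => hx (hQdP hxQ))
    obtain ⟨p₀, hp₀, hp₀Q⟩ := Ideal.exists_minimalPrimes_le
      (bot_le : (⊥ : Ideal DP) ≤ Qd.map (algebraMap D DP))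
    have hAss : p₀ ∈ associatedPrimes DP DP := by
      refine Module.associatedPrimes.minimalPrimes_annihilator_subset_associatedPrimes DP DP ?_
      rw [Module.annihilator_eq_bot.2 (inferInstance : FaithfulSMul DP DP)]
      exact hp₀
    have hle0 : Module.annihilator DP MP ≤ p₀ := by
      intro x hx
      obtain ⟨c, t, rfl⟩ := IsLocalization.exists_mk'_eq P.asIdeal.primeCompl x
      rw [IsLocalization.mk'_eq_mul_mk'_one]
      refine p₀.mul_mem_right _ ?_
      have hc : algebraMap D DP c ∈ Module.annihilator DP MP := by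
        rw [← IsLocalization.mk'_spec DP c t, mul_comm]
        exact Ideal.mul_mem_left _ _ hx
      obtain ⟨G, hG⟩ := (Module.Finite.fg_top : (⊤ : Submodule D M).FG)
      have hex : ∀ g : M, ∃ u : P.asIdeal.primeCompl, (u : D) • c • g = 0 := fun g => by
        have h1 := Module.mem_annihilator.1 hc (LocalizedModule.mkLinearMap P.asIdeal.primeCompl M g)
        rw [algebraMap_smul, ← map_smul] at h1
        obtain ⟨u, hu⟩ := (IsLocalizedModule.eq_zero_iff P.asIdeal.primeCompl
          (LocalizedModule.mkLinearMap P.asIdeal.primeCompl M)).1 h1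
        exact ⟨u, hu⟩
      choose u hu using hex
      have hcm : (∏ g ∈ G, (u g : D)) * c ∈ Module.annihilator D M := Module.mem_annihilator.2 fun m => by
        have hm : m ∈ Submodule.span D (G : Set M) := by rw [hG]; trivial
        induction hm using Submodule.span_induction with
        | mem g hg =>
          obtain ⟨e, he⟩ := Finset.dvd_prod_of_mem (fun g => (u g : D)) (Finset.mem_coe.1 hg)
          rw [he, show (u g : D) * e * c = e * ((u g : D) * c) by ring, mul_smul, mul_smul, hu, smul_zero]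
        | zero => rw [smul_zero]
        | add a b _ _ ha hb => rw [smul_add, ha, hb, add_zero]
        | smul r a _ ha => rw [smul_comm, ha, smul_zero]
      obtain ⟨w, hw, hwc⟩ := exists_mul_eq_zero_of_free Qd hQsupp hcm
      haveI := hp₀.isPrime
      have h0 : algebraMap D DP (w * ((∏ g ∈ G, (u g : D)) * c)) ∈ p₀ := by rw [hwc, map_zero]; exact zero_mem _
      rw [map_mul, map_mul] at h0
      rcases Ideal.IsPrime.mem_or_mem inferInstance h0 with h | h
      · exact absurd ((IsLocalization.comap_map_of_isPrime_disjoint P.asIdeal.primeCompl DP ‹Qd.IsPrime›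
          (Set.disjoint_left.2 fun x hx hxQ => hx (hQdP hxQ))).le (hp₀Q h)) hw
      · rcases Ideal.IsPrime.mem_or_mem inferInstance h with h | h
        · exact absurd (Ideal.eq_top_of_isUnit_mem _ h (IsLocalization.map_units DP
            (⟨∏ g ∈ G, (u g : D), Submonoid.prod_mem _ fun g _ => (u g).2⟩ : P.asIdeal.primeCompl))) Ideal.IsPrime.ne_top'
        · exact h
    haveI := hp₀.isPrime
    have hdimM : ringKrullDim (DP ⧸ p₀) ≤ Module.supportDim DP MP := by
      rw [Module.supportDim_eq_ringKrullDim_quotient_annihilator]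
      exact ringKrullDim_le_of_surjective (Ideal.Quotient.factor hle0) (Ideal.Quotient.factor_surjective hle0)
    have hDP : 2 ≤ LocCoh.depth DP DP := by
      refine (hD.trans (GrothLib.Depth.idealDepth_le_localization (M := D) _ P.asIdeal hP)).trans (le_of_eq ?_)
      haveI : Module.Finite DP (LocalizedModule P.asIdeal.primeCompl D) :=
        Module.Finite.of_isLocalizedModule P.asIdeal.primeCompl (LocalizedModule.mkLinearMap P.asIdeal.primeCompl D)
      exact GrothLib.Depth.idealDepth_eq_of_equiv _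
        ((LocalizedModule.equivTensorProduct P.asIdeal.primeCompl D).trans (TensorProduct.AlgebraTensorModule.rid D DP DP))
    have h2 : ((2 : ℕ∞) : WithBot ℕ∞) ≤ Module.supportDim DP MP :=
      ((WithBot.coe_le_coe.2 hDP).trans (GrothLib.Depth.depth_le_dim_quotient hAss)).trans hdimM
    have := hSk P.asIdeal
    rw [min_eq_left (show ((2 : ℕ) : WithBot ℕ∞) ≤ _ from h2)] at this
    exact absurd hlt2 (not_lt.2 (WithBot.coe_le_coe.1 this))
  · obtain ⟨t, ht, htK⟩ := exists_notMem_smul_eq_zero J hTF P'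
      fun Q hQ hQP hann => by_contra fun hJ => hcase ⟨Q, hQ, hQP, hann, hJ⟩
    refine ht (Module.mem_support_iff_of_finite.1 hnt (Module.mem_annihilator.2 fun m => ?_))
    obtain ⟨x, rfl⟩ := Submodule.Quotient.mk_surjective _ m
    show Submodule.Quotient.mk (t • x) = 0
    rw [htK, Submodule.Quotient.mk_zero]

end GrothLib.FlatValCrit1
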